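import Mathlib
import Groth.Agent.Lib.ModM1.Stalk
import Groth.Prelude.Def_Coh
import Groth.Prelude.Def_RelSpec

/-!
Quasi-coherent algebras: localisation on affine opens from quasi-coherence of the underlying module,
and the identification of an algebra with the direct image of its relative spectrum.
-/

universe u

open CategoryTheory CategoryTheory.Limits AlgebraicGeometry TopologicalSpace Opposite

namespace Groth.Agent.RelSpecB

variable {S : Scheme.{u}}

/-- The module underlying a sheaf of algebras. -/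
noncomputable abbrev algMod (B : Sheaf (Opens.grothendieckTopology S) CommRingCat.{u}) (φ : S.sheaf ⟶ B) :
    S.Modules :=
  (SheafOfModules.restrictScalars
    ((sheafCompose (Opens.grothendieckTopology S) (forget₂ CommRingCat.{u} RingCat.{u})).map φ)).obj
    (SheafOfModules.unit ((sheafCompose (Opens.grothendieckTopology S) (forget₂ CommRingCat.{u} RingCat.{u})).obj B))

variable (B : Sheaf (Opens.grothendieckTopology S) CommRingCat.{u}) (φ : S.sheaf ⟶ B)

/-- A sheaf of algebras whose module is quasi-coherent localises on affine opens. -/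
theorem isQC (hB : Coh.IsQCoh (algMod B φ)) : RelSpec.IsQC B.obj φ.hom := by
  intro U hU r
  letI := (B.obj.map (homOfLE (S.basicOpen_le r)).op).hom.toAlgebra
  haveI := hB
  have hsq : (φ.hom.app (op (S.basicOpen r))).hom (M1.ores (S.basicOpen_le r) r) =
      (B.obj.map (homOfLE (S.basicOpen_le r)).op).hom ((φ.hom.app (op U)).hom r) :=
    ConcreteCategory.congr_hom (φ.hom.naturality (homOfLE (S.basicOpen_le r)).op) r
  have hunit : IsUnit ((φ.hom.app (op (S.basicOpen r))).hom (M1.ores (S.basicOpen_le r) r)) :=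
    RingHom.isUnit_map _ (RingedSpace.isUnit_res_basicOpen S.toRingedSpace r)
  refine IsLocalization.Away.mk ((φ.hom.app (op U)).hom r) (by rw [hsq] at hunit; exact hunit)
    (fun s => ?_) (fun a b hab => ?_)
  · let t : Γ(algMod B φ, S.basicOpen r) := s
    obtain ⟨k, t₀, ht⟩ := M1.exists_pow_smul_eq_res_affine (algMod B φ) hU r t
    refine ⟨k, t₀, ?_⟩
    let ψ : Γ(S, S.basicOpen r) →+* B.obj.obj (op (S.basicOpen r)) := (φ.hom.app (op (S.basicOpen r))).hom
    let ρ : B.obj.obj (op U) →+* B.obj.obj (op (S.basicOpen r)) :=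
      (B.obj.map (homOfLE (S.basicOpen_le r)).op).hom
    have h1 : ρ ((φ.hom.app (op U)).hom r) = ψ (M1.ores (S.basicOpen_le r) r) := hsq.symm
    have h2 : ψ (M1.ores (S.basicOpen_le r) r ^ k) * s = ρ t₀ := ht.symm
    change s * ρ ((φ.hom.app (op U)).hom r) ^ k = ρ t₀
    rw [h1, ← map_pow ψ, mul_comm]
    exact h2
  · let t : Γ(algMod B φ, U) := a - b
    obtain ⟨n, hn⟩ := M1.exists_pow_smul_eq_zero_affine (algMod B φ) hU r t (by
      change (B.obj.map (homOfLE (S.basicOpen_le r)).op).hom (a - b) = 0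
      rw [map_sub, sub_eq_zero]; exact hab)
    refine ⟨n, ?_⟩
    let ψ : Γ(S, U) →+* B.obj.obj (op U) := (φ.hom.app (op U)).hom
    have hn' : ψ (r ^ n) * (a - b) = 0 := hn
    rw [map_pow ψ, mul_sub, sub_eq_zero] at hn'
    exact hn'

/-- The quasi-coherent algebra attached to a sheaf of algebras with quasi-coherent module. -/
noncomputable abbrev toQCAlg (hB : Coh.IsQCoh (algMod B φ)) : RelSpec.QCAlg S :=
  ⟨B.obj, B.property, φ.hom, isQC B φ hB⟩

variable (A : RelSpec.QCAlg S)

lemma isIso_appLE_of_opensRange {X Y : Scheme.{u}} (f : X ⟶ Y) [IsOpenImmersion f] {W : Y.Opens}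
    (hW : W = f.opensRange) (e : ⊤ ≤ f ⁻¹ᵁ W) : IsIso (f.appLE W ⊤ e) := by
  subst hW
  have : IsIso (f.app f.opensRange) := Scheme.Hom.isIso_app f f.opensRange le_rfl
  rw [Scheme.Hom.appLE]
  have e' : f ⁻¹ᵁ f.opensRange = ⊤ := le_antisymm le_top e
  have : IsIso (X.presheaf.map (homOfLE e).op) := by
    rw [show (homOfLE e) = eqToHom e'.symm from Subsingleton.elim _ _]
    infer_instance
  infer_instance

theorem isIso_gammaAff (U : S.Opens) (hU : IsAffineOpen U) : IsIso (A.gammaAff U hU) := by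
  unfold RelSpec.QCAlg.gammaAff
  haveI := isIso_appLE_of_opensRange (A.ι U hU) (A.π_preimage U hU) (A.top_le_preimage U hU)
  infer_instance

/-- The canonical map `π_* O ⟶ A` is an isomorphism. -/
theorem isIso_gammaMap : IsIso A.gammaMap := by
  let F : TopCat.Sheaf CommRingCat.{u} S.carrier :=
    ⟨A.π.base _* A.spec.presheaf, TopCat.Sheaf.pushforward_sheaf_of_sheaf _ A.spec.sheaf.property⟩
  let G : TopCat.Sheaf CommRingCat.{u} S.carrier := ⟨A.presheaf, A.isSheaf⟩
  let α : F ⟶ G := ⟨A.gammaMap⟩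
  have : IsIso α := by
    refine Functor.IsCoverDense.iso_of_restrict_iso
      (G := Scheme.AffineZariskiSite.toOpensFunctor S) α ?_
    rw [NatTrans.isIso_iff_isIso_app]
    intro U
    change IsIso (A.gammaMap.app (op U.unop.1))
    rw [A.gammaMap_app U.unop.1 U.unop.2]
    exact isIso_gammaAff A _ _
  exact Functor.map_isIso (TopCat.Sheaf.forget CommRingCat.{u} S.carrier) α

/-- The inverse of `gammaMap`. -/
noncomputable def gammaInv : A.presheaf ⟶ A.π.base _* A.spec.presheaf :=
  (@asIso _ _ _ _ A.gammaMap (isIso_gammaMap A)).inv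

lemma gammaMap_gammaInv : A.gammaMap ≫ gammaInv A = 𝟙 _ :=
  (@asIso _ _ _ _ A.gammaMap (isIso_gammaMap A)).hom_inv_id

lemma gammaInv_gammaMap : gammaInv A ≫ A.gammaMap = 𝟙 _ :=
  (@asIso _ _ _ _ A.gammaMap (isIso_gammaMap A)).inv_hom_id

/-- `A ≅ π_* O` as sheaves, with `π` the structure map of the relative spectrum. -/
noncomputable def isoPush :
    (⟨A.presheaf, A.isSheaf⟩ : TopCat.Sheaf CommRingCat.{u} S.carrier) ≅
      (TopCat.Sheaf.pushforward CommRingCat.{u} A.π.base).obj A.spec.sheaf where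
  hom := ⟨gammaInv A⟩
  inv := ⟨A.gammaMap⟩
  hom_inv_id := Sheaf.hom_ext (gammaInv_gammaMap A)
  inv_hom_id := Sheaf.hom_ext (gammaMap_gammaInv A)

lemma str_isoPush : A.str ≫ (isoPush A).hom.hom = A.π.c := by
  change A.str ≫ gammaInv A = A.π.c
  rw [← A.π_c_gammaMap, Category.assoc, gammaMap_gammaInv, Category.comp_id]

/-- Replacing the structure map by a composite with an isomorphism. -/
lemma exists_iso_of_isIso {Z : Scheme.{u}} (h : Z ⟶ S) (i : Z ⟶ A.spec) [IsIso i] (hi : i ≫ A.π = h) :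
    ∃ e : (⟨A.presheaf, A.isSheaf⟩ : TopCat.Sheaf CommRingCat.{u} S.carrier) ≅
        (TopCat.Sheaf.pushforward CommRingCat.{u} h.base).obj Z.sheaf,
      A.str ≫ e.hom.hom = h.c := by
  subst hi
  let α : (TopCat.Sheaf.pushforward CommRingCat.{u} A.π.base).obj A.spec.sheaf ⟶
      (TopCat.Sheaf.pushforward CommRingCat.{u} (i ≫ A.π).base).obj Z.sheaf :=
    ⟨Functor.whiskerLeft _ i.c⟩
  haveI : IsIso α := by
    have : IsIso ((sheafToPresheaf _ _).map α) := by
      rw [NatTrans.isIso_iff_isIso_app]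
      intro U
      change IsIso (i.app (A.π ⁻¹ᵁ U.unop))
      infer_instance
    exact (fullyFaithfulSheafToPresheaf _ _).isIso_of_isIso_map α
  refine ⟨isoPush A ≪≫ @asIso _ _ _ _ α (by assumption), ?_⟩
  change A.str ≫ (isoPush A).hom.hom ≫ α.hom = _
  rw [reassoc_of% (str_isoPush A)]
  rfl

end Groth.Agent.RelSpecB
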